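import Mathlib.Algebra.DirectSum.Module
import Mathlib.Algebra.DirectSum.Decomposition
import Mathlib.Algebra.Module.Projective
import Mathlib.LinearAlgebra.TensorProduct.Tower
import Mathlib.LinearAlgebra.TensorProduct.RightExactness
import Mathlib.LinearAlgebra.FiniteDimensional.Lemmas
import Mathlib.RingTheory.TensorProduct.Finite
import Mathlib.RingTheory.Support
import Mathlib.RingTheory.LocalRing.Module
import Mathlib.RingTheory.LocalRing.ResidueField.Fiber
import Mathlib.RingTheory.Finiteness.Basic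
import Mathlib.Data.Finset.Max

/-!
# Splitting filtrations of projective modules
-/

set_option autoImplicit false
universe u v w

open scoped TensorProduct

namespace FiltSplitLib

variable {R : Type u} [CommRing R] {M : Type v} [AddCommGroup M] [Module R M]
variable (K : Type u) [Field K] [Algebra R K]

/-- The image of a submodule in the base change. -/
noncomputable def img (A : Submodule R M) : Submodule K (K ⊗[R] M) := LinearMap.range (A.subtype.baseChange K)

theorem img_le_iff (A : Submodule R M) (W : Submodule K (K ⊗[R] M)) :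
    img K A ≤ W ↔ A ≤ (W.restrictScalars R).comap (TensorProduct.mk R K M 1) := by
  constructor
  · intro h x hx
    exact h ⟨(1 : K) ⊗ₜ ⟨x, hx⟩, by simp⟩
  · rintro h _ ⟨t, rfl⟩
    induction t with
    | zero => rw [map_zero]; exact zero_mem _
    | tmul a x =>
      have hx : (1 : K) ⊗ₜ[R] (x : M) ∈ W := h x.2
      have := W.smul_mem a hx
      rw [TensorProduct.smul_tmul', smul_eq_mul, mul_one] at this
      simpa using this
    | add s t hs ht => rw [map_add]; exact add_mem hs ht

theorem gc : GaloisConnection (img (M := M) K)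
    (fun W : Submodule K (K ⊗[R] M) => (W.restrictScalars R).comap (TensorProduct.mk R K M 1)) :=
  fun A W => img_le_iff K A W

theorem img_mono {A B : Submodule R M} (h : A ≤ B) : img K A ≤ img K B := (gc K).monotone_l h

theorem img_sup (A B : Submodule R M) : img K (A ⊔ B) = img K A ⊔ img K B := (gc K).l_sup

theorem img_iSup {ι : Sort*} (A : ι → Submodule R M) : img K (⨆ i, A i) = ⨆ i, img K (A i) := (gc K).l_iSup

theorem img_biSup {ι : Type*} (s : Set ι) (A : ι → Submodule R M) :
    img K (⨆ i ∈ s, A i) = ⨆ i ∈ s, img K (A i) := by simp only [img_iSup]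

theorem img_bot : img K (⊥ : Submodule R M) = ⊥ := (gc K).l_bot

theorem img_top : img K (⊤ : Submodule R M) = ⊤ := by
  refine eq_top_iff.2 fun t ht => ?_
  clear ht
  induction t with
  | zero => exact zero_mem _
  | tmul a x => exact ⟨a ⊗ₜ ⟨x, trivial⟩, by simp⟩
  | add s t hs ht => exact add_mem hs ht

variable {Γ : Type w} [LinearOrder Γ] {V : Type*} [AddCommGroup V] [Module K V] [FiniteDimensional K V]

/-- The jumps of a filtration are at most the dimension of a subspace meeting every graded piece. -/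
theorem sum_jump_le (Fx : Γ → Submodule K V) (hFx : Antitone Fx) (L : Γ → Submodule K V) (W : Submodule K V)
    (hL : ∀ γ, L γ ≤ W) (hstep : ∀ γ, Fx γ = L γ ⊔ ⨆ η ∈ Set.Ioi γ, Fx η) (s : Finset Γ) :
    ∑ γ ∈ s, (Module.finrank K (Fx γ) - Module.finrank K ↥(⨆ η ∈ Set.Ioi γ, Fx η)) ≤ Module.finrank K W ∧
    ∀ a, (∀ b ∈ s, a ≤ b) →
      ∑ γ ∈ s, (Module.finrank K (Fx γ) - Module.finrank K ↥(⨆ η ∈ Set.Ioi γ, Fx η)) ≤
        Module.finrank K ↥(Fx a ⊓ W) := by
  classical
  induction s using Finset.induction_on_min with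
  | empty => simp
  | insert a s ha ih =>
    have has : a ∉ s := fun h => (ha a h).false
    set P := ⨆ η ∈ Set.Ioi a, Fx η with hP
    have hPle : P ≤ Fx a := iSup₂_le fun η hη => hFx (le_of_lt hη)
    have hrest : ∑ γ ∈ s, (Module.finrank K (Fx γ) - Module.finrank K ↥(⨆ η ∈ Set.Ioi γ, Fx η)) ≤
        Module.finrank K ↥(P ⊓ W) := by
      rcases s.eq_empty_or_nonempty with rfl | hne
      · simp
      · refine (ih.2 (s.min' hne) fun b hb => s.min'_le b hb).trans (Submodule.finrank_mono ?_)
        exact inf_le_inf_right _ (le_biSup Fx (ha _ (s.min'_mem hne)))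
    have hmod : Fx a ⊓ W = L a ⊔ (P ⊓ W) := by
      conv_lhs => rw [hstep a]
      exact sup_inf_assoc_of_le P (hL a)
    have h1 := Submodule.finrank_sup_add_finrank_inf_eq (Fx a ⊓ W) P
    have e1 : (Fx a ⊓ W) ⊔ P = Fx a := by
      refine le_antisymm (sup_le inf_le_left hPle) ?_
      rw [hmod]
      conv_lhs => rw [hstep a]
      exact sup_le (le_sup_of_le_left le_sup_left) le_sup_right
    have e2 : (Fx a ⊓ W) ⊓ P = P ⊓ W := by
      rw [inf_right_comm, inf_eq_right.2 hPle]
    rw [e1, e2] at h1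
    have key : ∑ γ ∈ insert a s, (Module.finrank K (Fx γ) - Module.finrank K ↥(⨆ η ∈ Set.Ioi γ, Fx η)) ≤
        Module.finrank K ↥(Fx a ⊓ W) := by
      rw [Finset.sum_insert has]
      have := Submodule.finrank_mono hPle
      have hPf : Module.finrank K P = Module.finrank K ↥(⨆ η ∈ Set.Ioi a, Fx η) := rfl
      omega
    refine ⟨key.trans (Submodule.finrank_mono inf_le_right), fun b hb => ?_⟩
    exact key.trans (Submodule.finrank_mono (inf_le_inf_right _ (hFx (hb a (Finset.mem_insert_self a s)))))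

theorem finite_jumps (Fx : Γ → Submodule K V) (hFx : Antitone Fx) :
    (Function.support fun γ => Module.finrank K (Fx γ) - Module.finrank K ↥(⨆ η ∈ Set.Ioi γ, Fx η)).Finite := by
  refine Set.Finite.of_finite_image (f := fun γ => Module.finrank K (Fx γ)) ?_ ?_
  · refine (Set.finite_Iic (Module.finrank K V)).subset ?_
    rintro _ ⟨γ, _, rfl⟩
    exact Submodule.finrank_le _
  · have key : ∀ {γ η : Γ}, γ < η →
        γ ∈ Function.support (fun γ => Module.finrank K (Fx γ) - Module.finrank K ↥(⨆ η ∈ Set.Ioi γ, Fx η)) →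
        Module.finrank K (Fx η) < Module.finrank K (Fx γ) := by
      intro γ η h hγ
      have h1 := Submodule.finrank_mono (le_biSup Fx (show η ∈ Set.Ioi γ from h) : Fx η ≤ _)
      simp only [Function.mem_support] at hγ
      omega
    intro γ hγ η hη e
    rcases lt_trichotomy γ η with h | h | h
    · exact absurd e (key h hγ).ne'
    · exact h
    · exact absurd e (key h hη).ne

/-- The key dimension count. -/
theorem eq_top_of_sum (Fx : Γ → Submodule K V) (hFx : Antitone Fx) (L : Γ → Submodule K V) (W : Submodule K V)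
    (hL : ∀ γ, L γ ≤ W) (hstep : ∀ γ, Fx γ = L γ ⊔ ⨆ η ∈ Set.Ioi γ, Fx η)
    (hsum : Module.finrank K V = ∑ᶠ γ, (Module.finrank K (Fx γ) - Module.finrank K ↥(⨆ η ∈ Set.Ioi γ, Fx η))) :
    W = ⊤ := by
  refine Submodule.eq_top_of_finrank_eq (le_antisymm (Submodule.finrank_le _) ?_)
  rw [hsum, finsum_eq_sum _ (finite_jumps K Fx hFx)]
  exact (sum_jump_le K Fx hFx L W hL hstep _).1

variable [Module.Finite R M] [Module.Projective R M]
  (F : Γ → Submodule R M) (hF : Antitone F) (Fp : Γ → Submodule R M) (hFp : ∀ γ, Fp γ = ⨆ η ∈ Set.Ioi γ, F η)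

include hF hFp in
theorem exists_grading
    (hgr : ∀ γ, Module.Projective R (↥(F γ) ⧸ Submodule.comap (F γ).subtype (Fp γ)))
    (hrk : ∀ (p : PrimeSpectrum R) (Fx : Γ → Submodule p.asIdeal.ResidueField (p.asIdeal.ResidueField ⊗[R] M)),
        (∀ γ, Fx γ = LinearMap.range ((F γ).subtype.baseChange p.asIdeal.ResidueField)) →
        Module.finrank p.asIdeal.ResidueField (p.asIdeal.ResidueField ⊗[R] M) =
          ∑ᶠ γ, (Module.finrank p.asIdeal.ResidueField ↥(Fx γ) -
            Module.finrank p.asIdeal.ResidueField ↥(⨆ η ∈ Set.Ioi γ, Fx η))) :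
    ∃ G : Γ → Submodule R M, DirectSum.IsInternal G ∧ ∀ γ, F γ = ⨆ η ∈ Set.Ici γ, G η := by
  classical
  have hs : ∀ γ, ∃ s : (↥(F γ) ⧸ Submodule.comap (F γ).subtype (Fp γ)) →ₗ[R] F γ,
      (Submodule.mkQ _).comp s = LinearMap.id := fun γ => by
    haveI := hgr γ
    exact Module.projective_lifting_property _ _ (Submodule.mkQ_surjective _)
  choose s hs using hs
  let G : Γ → Submodule R M := fun γ => LinearMap.range ((F γ).subtype.comp (s γ))
  have hle : ∀ γ, Fp γ ≤ F γ := fun γ => by rw [hFp]; exact iSup₂_le fun η hη => hF (le_of_lt hη)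
  have hGF : ∀ γ, G γ ≤ F γ := fun γ => by rintro _ ⟨z, rfl⟩; exact (s γ z).2
  have hsplit : ∀ γ, F γ = G γ ⊔ Fp γ := fun γ => by
    refine le_antisymm (fun x hx => ?_) (sup_le (hGF γ) (hle γ))
    let z := (Submodule.mkQ (Submodule.comap (F γ).subtype (Fp γ))) ⟨x, hx⟩
    have h1 : (⟨x, hx⟩ : F γ) - s γ z ∈ Submodule.comap (F γ).subtype (Fp γ) :=
      (Submodule.Quotient.eq _).1 (LinearMap.congr_fun (hs γ) z).symm
    exact Submodule.mem_sup.2 ⟨_, ⟨z, rfl⟩, _, h1, by simp⟩
  have hdisj : ∀ γ x, x ∈ G γ → x ∈ Fp γ → x = 0 := by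
    rintro γ _ ⟨z, rfl⟩ h2
    have h0 : Submodule.mkQ (Submodule.comap (F γ).subtype (Fp γ)) (s γ z) = 0 := (Submodule.Quotient.mk_eq_zero _).2 h2
    have h1 := LinearMap.congr_fun (hs γ) z
    rw [LinearMap.comp_apply, h0, LinearMap.id_apply] at h1
    rw [← h1, map_zero]
  have hGp : ∀ {γ η}, γ < η → G η ≤ Fp γ := fun {γ η} h => by
    rw [hFp]; exact (hGF η).trans (le_biSup F (show η ∈ Set.Ioi γ from h))
  -- the sum map is bijective
  have hinj : Function.Injective (DirectSum.coeLinearMap G) := by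
    refine (injective_iff_map_eq_zero _).2 fun f hf => ?_
    by_contra hne
    have hne' : (DFinsupp.support f).Nonempty := Finset.nonempty_iff_ne_empty.2 fun e => hne (DFinsupp.support_eq_empty.1 e)
    set γ := (DFinsupp.support f).min' hne' with hγdef
    have hmem := (DFinsupp.support f).min'_mem hne'
    rw [← hγdef] at hmem
    refine DFinsupp.mem_support_iff.1 hmem (Subtype.ext (hdisj γ _ (f γ).2 ?_))
    rw [DirectSum.coeLinearMap_eq_dfinsuppSum, DFinsupp.sum] at hf
    rw [← Finset.add_sum_erase _ _ hmem] at hf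
    rw [eq_neg_of_add_eq_zero_left hf]
    refine neg_mem (Submodule.sum_mem _ fun η hη => hGp ?_ (f η).2)
    exact lt_of_le_of_ne ((DFinsupp.support f).min'_le η (Finset.mem_of_mem_erase hη)) (Finset.ne_of_mem_erase hη).symm
  have hspan : ⨆ γ, G γ = ⊤ := by
    rw [← Submodule.Quotient.subsingleton_iff, ← not_nontrivial_iff_subsingleton]
    intro hnt
    obtain ⟨p, hp⟩ := Module.nonempty_support_iff (R := R) |>.2 hnt
    let K := p.asIdeal.ResidueField
    have hW : img K (⨆ γ, G γ) = ⊤ := by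
      refine eq_top_of_sum K (fun γ => img K (F γ)) (fun a b h => img_mono K (hF h)) (fun γ => img K (G γ)) _
        (fun γ => img_mono K (le_iSup G γ)) (fun γ => ?_) (hrk p _ fun γ => rfl)
      show img K (F γ) = _
      conv_lhs => rw [hsplit γ, img_sup, hFp, img_biSup]
    rw [Module.mem_support_iff_nontrivial_residueField_tensorProduct] at hp
    refine absurd ?_ (not_subsingleton_iff_nontrivial.2 hp)
    refine subsingleton_of_forall_eq 0 fun t => ?_
    obtain ⟨t, rfl⟩ := LinearMap.lTensor_surjective K (Submodule.mkQ_surjective (⨆ γ, G γ)) t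
    have ht : t ∈ img K (⨆ γ, G γ) := hW ▸ Submodule.mem_top
    obtain ⟨y, rfl⟩ := ht
    induction y with
    | zero => simp
    | tmul a x =>
      rw [LinearMap.baseChange_tmul, LinearMap.lTensor_tmul, Submodule.subtype_apply, Submodule.mkQ_apply,
        (Submodule.Quotient.mk_eq_zero _).2 x.2, TensorProduct.tmul_zero]
    | add a b ha hb => rw [map_add, map_add, ha, hb, add_zero]
  have hsurj : Function.Surjective (DirectSum.coeLinearMap G) := by
    rw [← LinearMap.range_eq_top, DirectSum.range_coeLinearMap, hspan]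
  refine ⟨G, ⟨hinj, hsurj⟩, fun γ => le_antisymm (fun x hx => ?_) (iSup₂_le fun η hη => (hGF η).trans (hF hη))⟩
  obtain ⟨f, rfl⟩ := hsurj x
  rw [DirectSum.coeLinearMap_eq_dfinsuppSum, DFinsupp.sum] at hx ⊢
  refine Submodule.sum_mem _ fun η hη => ?_
  suffices hall : ∀ η ∈ DFinsupp.support f, γ ≤ η from (le_biSup G (show η ∈ Set.Ici γ from hall η hη)) (f η).2
  have hne' : (DFinsupp.support f).Nonempty := ⟨η, hη⟩
  set m := (DFinsupp.support f).min' hne' with hmdef
  have hm := (DFinsupp.support f).min'_mem hne'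
  rw [← hmdef] at hm
  intro η' hη'
  by_contra hlt
  have hmlt : m < γ := lt_of_le_of_lt ((DFinsupp.support f).min'_le η' hη') (not_le.1 hlt)
  refine DFinsupp.mem_support_iff.1 hm (Subtype.ext (hdisj m _ (f m).2 ?_))
  rw [← Finset.add_sum_erase _ _ hm] at hx
  have h1 : ((f m : M) + ∑ i ∈ (DFinsupp.support f).erase m, (f i : M)) ∈ Fp m := by
    rw [hFp]; exact (le_biSup F (show γ ∈ Set.Ioi m from hmlt)) hx
  have h2 : ∑ i ∈ (DFinsupp.support f).erase m, (f i : M) ∈ Fp m := Submodule.sum_mem _ fun i hi =>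
    hGp (lt_of_le_of_ne ((DFinsupp.support f).min'_le i (Finset.mem_of_mem_erase hi)) (Finset.ne_of_mem_erase hi).symm) (f i).2
  exact (Submodule.add_mem_iff_left _ h2).1 h1

include hFp in
theorem of_grading (G : Γ → Submodule R M) (hG : DirectSum.IsInternal G)
    (hGF : ∀ γ, F γ = ⨆ η ∈ Set.Ici γ, G η) :
    (∀ γ, Module.Finite R (↥(F γ) ⧸ Submodule.comap (F γ).subtype (Fp γ)) ∧
        Module.Projective R (↥(F γ) ⧸ Submodule.comap (F γ).subtype (Fp γ))) ∧
      ∀ (p : PrimeSpectrum R) (Fx : Γ → Submodule p.asIdeal.ResidueField (p.asIdeal.ResidueField ⊗[R] M)),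
        (∀ γ, Fx γ = LinearMap.range ((F γ).subtype.baseChange p.asIdeal.ResidueField)) →
        Module.finrank p.asIdeal.ResidueField (p.asIdeal.ResidueField ⊗[R] M) =
          ∑ᶠ γ, (Module.finrank p.asIdeal.ResidueField ↥(Fx γ) -
            Module.finrank p.asIdeal.ResidueField ↥(⨆ η ∈ Set.Ioi γ, Fx η)) := by
  classical
  have hGle : ∀ γ, G γ ≤ F γ := fun γ => by rw [hGF]; exact le_biSup G (show γ ∈ Set.Ici γ from le_rfl)
  have hFp' : ∀ γ, Fp γ = ⨆ η ∈ Set.Ioi γ, G η := fun γ => by
    rw [hFp]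
    refine le_antisymm (iSup₂_le fun η hη => ?_) (iSup₂_le fun η hη => (hGle η).trans (le_biSup F hη))
    rw [hGF]
    exact iSup₂_le fun i hi => le_biSup G (lt_of_lt_of_le hη hi)
  let c := fun γ => ⨆ (η) (_ : η ≠ γ), G η
  have hc : ∀ γ, IsCompl (G γ) (c γ) := fun γ => ⟨hG.submodule_iSupIndep γ, by
    rw [codisjoint_iff]
    refine le_antisymm le_top ?_
    rw [← hG.submodule_iSup_eq_top]
    refine iSup_le fun η => ?_
    by_cases h : η = γ
    · exact h ▸ le_sup_left
    · exact le_sup_of_le_right (le_iSup₂_of_le η h le_rfl)⟩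
  let π : ∀ γ, M →ₗ[R] G γ := fun γ => (G γ).linearProjOfIsCompl (c γ) (hc γ)
  have hπ1 : ∀ γ (x : G γ), π γ x = x := fun γ x => Submodule.linearProjOfIsCompl_apply_left (hc γ) x
  have hπ0 : ∀ γ η, η ≠ γ → ∀ x ∈ G η, π γ x = 0 := fun γ η h x hx =>
    (Submodule.linearProjOfIsCompl_apply_eq_zero_iff (hc γ)).2 ((le_iSup₂_of_le η h le_rfl : G η ≤ c γ) hx)
  have hsup : ∀ γ, F γ = G γ ⊔ Fp γ := fun γ => by
    refine le_antisymm ?_ (sup_le (hGle γ) ?_)
    · rw [hGF, hFp']
      refine iSup₂_le fun η hη => ?_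
      rcases eq_or_lt_of_le (show γ ≤ η from hη) with rfl | h
      · exact le_sup_left
      · exact le_sup_of_le_right (le_biSup G h)
    · rw [hFp', hGF]
      exact biSup_mono fun η (hη : γ < η) => le_of_lt hη
  have hker : ∀ γ, Fp γ ≤ LinearMap.ker (π γ) := fun γ => by
    rw [hFp']; exact iSup₂_le fun η hη x hx => hπ0 γ η (ne_of_gt hη) x hx
  have hfin : {γ | G γ ≠ ⊥}.Finite := by
    obtain ⟨t, ht⟩ := (Module.Finite.fg_top (R := R) (M := M))
    have hx : ∀ x : M, ∃ s : Finset Γ, x ∈ ⨆ i ∈ s, G i := fun x =>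
      Submodule.exists_finset_of_mem_iSup G (hG.submodule_iSup_eq_top ▸ Submodule.mem_top)
    choose s hs using hx
    refine (t.biUnion s).finite_toSet.subset fun γ hγ => ?_
    by_contra hnot
    apply hγ
    refine eq_bot_iff.2 fun x hx => ?_
    have hxt : x ∈ Submodule.span R (t : Set M) := ht ▸ Submodule.mem_top
    have : Submodule.span R (t : Set M) ≤ LinearMap.ker (π γ) := Submodule.span_le.2 fun y hy => by
      have : (⨆ i ∈ s y, G i) ≤ LinearMap.ker (π γ) := iSup₂_le fun i hi z hz => hπ0 γ i (fun e => hnot (by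
        subst e; exact Finset.mem_coe.2 (Finset.mem_biUnion.2 ⟨y, hy, hi⟩))) z hz
      exact this (hs y)
    have h1 : π γ x = 0 := this hxt
    rw [hπ1 γ ⟨x, hx⟩] at h1
    exact congrArg Subtype.val h1
  refine ⟨fun γ => ?_, fun p Fx hFx => ?_⟩
  · let f : F γ →ₗ[R] G γ := (π γ).comp (F γ).subtype
    have hfs : Function.Surjective f := fun x => ⟨⟨x, hGle γ x.2⟩, hπ1 γ x⟩
    have hk : LinearMap.ker f = Submodule.comap (F γ).subtype (Fp γ) := by
      refine le_antisymm (fun x hx => ?_) fun x hx => hker γ hx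
      have hx' : (x : M) ∈ G γ ⊔ Fp γ := (hsup γ) ▸ x.2
      obtain ⟨a, ha, b, hb, hab⟩ := Submodule.mem_sup.1 hx'
      have h0 : π γ (x : M) = 0 := hx
      rw [← hab, map_add, show π γ b = 0 from hker γ hb, add_zero, hπ1 γ ⟨a, ha⟩] at h0
      have : a = 0 := congrArg Subtype.val h0
      show (x : M) ∈ Fp γ
      rw [← hab, this, zero_add]; exact hb
    let e : (↥(F γ) ⧸ Submodule.comap (F γ).subtype (Fp γ)) ≃ₗ[R] G γ :=
      (Submodule.quotEquivOfEq _ _ hk.symm).trans (f.quotKerEquivOfSurjective hfs)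
    haveI : Module.Finite R (G γ) := Module.Finite.of_surjective (π γ) fun x => ⟨x, hπ1 γ x⟩
    haveI : Module.Projective R (G γ) :=
      Module.Projective.of_split (G γ).subtype (π γ) (LinearMap.ext fun x => hπ1 γ x)
    exact ⟨Module.Finite.equiv e.symm, Module.Projective.of_equiv e.symm⟩
  · let K := p.asIdeal.ResidueField
    obtain rfl : Fx = fun γ => img K (F γ) := funext hFx
    beta_reduce
    let L := fun γ => img K (G γ)
    have hL0 : ∀ γ, img K (Fp γ) ⊓ L γ = ⊥ := fun γ => by
      refine eq_bot_iff.2 fun z hz => ?_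
      obtain ⟨y, rfl⟩ := hz.2
      have h1 : ((π γ).baseChange K) ((G γ).subtype.baseChange K y) = y := by
        rw [← LinearMap.comp_apply, ← LinearMap.baseChange_comp,
          show (π γ).comp (G γ).subtype = LinearMap.id from LinearMap.ext fun x => hπ1 γ x, LinearMap.baseChange_id]
        rfl
      have h2 : ((π γ).baseChange K) ((G γ).subtype.baseChange K y) = 0 := by
        have hle' : img K (Fp γ) ≤ LinearMap.ker ((π γ).baseChange K) := by
          rw [img_le_iff]
          intro x hx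
          show ((π γ).baseChange K) ((1 : K) ⊗ₜ x) = 0
          rw [LinearMap.baseChange_tmul, show π γ x = 0 from hker γ hx, TensorProduct.tmul_zero]
        exact hle' hz.1
      rw [h1] at h2
      rw [h2, map_zero]
      exact zero_mem _
    have hjump : ∀ γ, Module.finrank K (img K (F γ)) - Module.finrank K ↥(⨆ η ∈ Set.Ioi γ, img K (F η)) =
        Module.finrank K (L γ) := fun γ => by
      rw [← img_biSup, ← hFp γ, hsup γ, img_sup]
      have := Submodule.finrank_sup_add_finrank_inf_eq (img K (Fp γ)) (L γ)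
      rw [hL0, finrank_bot, sup_comm] at this
      show Module.finrank K ↥(L γ ⊔ img K (Fp γ)) - _ = _
      omega
    rw [finsum_congr hjump]
    rw [finsum_eq_sum_of_support_subset _ (s := hfin.toFinset) fun γ hγ => by
      simp only [Set.Finite.coe_toFinset, Set.mem_setOf_eq]
      intro h
      apply hγ
      show Module.finrank K (img K (G γ)) = 0
      rw [h, img_bot, finrank_bot]]
    have key : ∀ S : Finset Γ, Module.finrank K ↥(⨆ γ ∈ S, L γ) = ∑ γ ∈ S, Module.finrank K (L γ) := by
      intro S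
      induction S using Finset.induction_on_min with
      | empty => simp
      | insert a s ha ih =>
        rw [Finset.iSup_insert, Finset.sum_insert (fun h => (ha a h).false), ← ih]
        have := Submodule.finrank_sup_add_finrank_inf_eq (L a) (⨆ γ ∈ s, L γ)
        have hb : L a ⊓ ⨆ γ ∈ s, L γ = ⊥ := eq_bot_iff.2 (by
          rw [← hL0 a, inf_comm (img K (Fp a))]
          refine inf_le_inf_left _ (iSup₂_le fun γ hγ => img_mono K ?_)
          rw [hFp']
          exact le_biSup G (show γ ∈ Set.Ioi a from ha γ hγ))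
        rw [hb, finrank_bot] at this
        omega
    rw [← key]
    have : (⨆ γ ∈ hfin.toFinset, L γ) = ⊤ := by
      refine eq_top_iff.2 ?_
      rw [← img_top K, ← hG.submodule_iSup_eq_top, img_iSup]
      refine iSup_le fun γ => ?_
      by_cases h : G γ = ⊥
      · rw [h, img_bot]; exact bot_le
      · exact le_biSup L (hfin.mem_toFinset.2 h)
    rw [this, finrank_top]

end FiltSplitLib
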